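import Groth.Agent.Lib.CMReg18.RegQCoh
import Groth.Agent.Lib.CohFound.ProjRelVan
import Groth.Agent.Lib.CohFound.QuasiAffineVan
import Groth.Agent.Lib.CohFound.PolyBC
import Groth.Agent.Lib.CohMop.HomCoh
import Groth.Agent.Lib.GrpOmega.Free
import Groth.Agent.Lib.Grass18.OpenBC
import Groth.Agent.Lib.VeryAmple11.BundleTwist
import Groth.Agent.Lib.PicPn.OverPoint

/-!
# Quasi-coherent modules pulled back to projective space over an affine scheme
-/

set_option autoImplicit false
set_option linter.style.haveILetI false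
set_option backward.isDefEq.respectTransparency false
set_option maxHeartbeats 1600000

universe u

open CategoryTheory CategoryTheory.Limits AlgebraicGeometry TopologicalSpace Opposite Scheme.Modules

namespace Groth.Agent.RegRes18

open Groth.Agent Groth.Agent.CMReg18

variable {Z V : Scheme.{u}}

/-- Quasi-coherent modules on affine schemes are quotients of free modules. -/
theorem exists_epi_free [IsAffine V] {N : V.Modules} (hN : Coh.IsQCoh N) :
    ∃ (ι : Type u) (p : (SheafOfModules.free ι : V.Modules) ⟶ N), Epi p := by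
  haveI := hN
  haveI : N.IsQuasicoherent := hN
  haveI : ((⊤ : V.Opens) : Scheme.{u}).IsQuasiAffine := Scheme.IsQuasiAffine.of_isAffineHom V.topIso.hom
  exact RA.isGloballyGenerated_of_span N fun x => top_le_iff.mp fun a _ => by
    obtain ⟨t, c, rfl⟩ := QAGen11.exists_smul_germ_eq N ⊤ (x := x) trivial a
    exact Submodule.smul_mem _ c (Submodule.subset_span ⟨t, rfl⟩)

/-- Twists of pulled back modules have no cohomology where the twists of the unit have none. -/
theorem subsingleton_HH_pullback_tw [IsAffine V] (g : Z ⟶ V) [Flat g]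
    [CompactSpace Z] [IsSeparated g] (D : TwistData Z) (A : Type u) [CommRing A]
    [Z.Over (Spec (CommRingCat.of A))] {d : ℤ} {i : ℕ}
    (hd : ∀ j, i ≤ j → Subsingleton (Coh.HH Z (D.O d) j)) {N : V.Modules} (hN : Coh.IsQCoh N)
    (j : ℕ) (hj : i ≤ j) : Subsingleton (Coh.HH Z (D.tw ((Scheme.Modules.pullback g).obj N) d) j) := by
  haveI : Z.IsSeparated := ⟨by rw [← terminal.comp_from g]; infer_instance⟩
  obtain ⟨ι, hfin, W, hW, hWa⟩ := CBC10.exists_finite_affine_cover Z
  haveI := Fintype.ofFinite ι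
  let t := Fintype.card ι
  let e := Fintype.equivFin ι
  suffices H : ∀ (m : ℕ) (j : ℕ), i ≤ j → t ≤ j + m → ∀ {N : V.Modules}, Coh.IsQCoh N →
      Subsingleton (Coh.HH Z (D.tw ((Scheme.Modules.pullback g).obj N) d) j) from H t j hj (by omega) hN
  intro m
  induction m with
  | zero =>
    intro j _ hjt N hN
    haveI : Coh.IsQCoh (D.tw ((Scheme.Modules.pullback g).obj N) d) :=
      M2.isQCoh_tensor (M1.isQCoh_pullback g hN) (Twist.isQCoh_of_isInvertible (D.inv d))
    exact S0010.result Z t (fun a => W (e.symm a)) (fun a => hWa _)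
      (eq_top_iff.2 (hW.trans (iSup_le fun a => le_iSup_of_le (e a) (by simp))))
      (fun _ _ h1 h2 => h1.inf h2) _ j (by omega)
  | succ m ih =>
    intro j hij hjt N hN
    obtain ⟨α, p, hp⟩ := exists_epi_free hN
    haveI := hp
    haveI : (Scheme.Modules.pullback g).Additive := (pullbackPushforwardAdjunction g).left_adjoint_additive
    haveI : PreservesColimitsOfSize.{0, 0} (Scheme.Modules.pullback g) :=
      (pullbackPushforwardAdjunction g).leftAdjoint_preservesColimits
    haveI : (M2.tensorR (D.O d)).IsLeftAdjoint := CohMop.isLeftAdjoint_tenR (D.O d)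
    let S₀ := ShortComplex.mk (kernel.ι p) p (kernel.condition p)
    have hS₀ : S₀.ShortExact := { exact := ShortComplex.exact_of_f_is_kernel _ (kernelIsKernel p) }
    let S₁ := S₀.map (Scheme.Modules.pullback g)
    have hS₁ : S₁.ShortExact := ShortComplex.ShortExact.mk' (hS₀.exact.map_of_epi_of_preservesCokernel _ hp inferInstance)
      (ModLimH13.mono_pullback_map_of_flat g _) (inferInstanceAs (Epi ((Scheme.Modules.pullback g).map p)))
    have hK : Coh.IsQCoh (kernel p) := M1.isQCoh_kernel (M1.isQCoh_fr V α) hN p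
    obtain ⟨ef⟩ := GrpOmega.nonempty_pullback_free g α
    let e' : D.tw ((Scheme.Modules.pullback g).obj (SheafOfModules.free α : V.Modules)) d ≅ ∐ fun _ : α => D.O d :=
      M2.tensorIso ef (Iso.refl _) ≪≫ PreservesCoproduct.iso (M2.tensorR (D.O d)) _ ≪≫
        Sigma.mapIso fun _ => M2.tensorLUnit (D.O d)
    have h2 : Subsingleton (Coh.HH Z (D.tw S₁.X₂ d) j) :=
      van_iso A e'.symm ((CohFound.subsingleton_HH_iff _ _).2
        (CohFound.subsingleton_hc_coproduct (L := D.O d) j isCompact_univ isQuasiSeparated_univ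
          ((CohFound.subsingleton_HH_iff _ _).1 (hd j hij))))
    exact van₃ A (D.shortExact_tw hS₁ d) h2 (ih (j + 1) (by omega) (by omega) hK)

/-- Sections of pulled back modules come from the base. -/
theorem surjective_pullSec [IsAffine V] (g : Z ⟶ V) [Flat g] [CompactSpace Z] [IsSeparated g]
    (hg : Function.Bijective (g.app ⊤)) (A : Type u) [CommRing A] [Z.Over (Spec (CommRingCat.of A))]
    (hvan : ∀ M : V.Modules, Coh.IsQCoh M → Subsingleton (Coh.HH Z ((Scheme.Modules.pullback g).obj M) 1))
    {N : V.Modules} (hN : Coh.IsQCoh N) : Function.Surjective (M2.pullSec g N : Γ(N, ⊤) → _) := by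
  haveI : Z.IsSeparated := ⟨by rw [← terminal.comp_from g]; infer_instance⟩
  obtain ⟨α, p, hp⟩ := exists_epi_free hN
  haveI := hp
  haveI : (Scheme.Modules.pullback g).Additive := (pullbackPushforwardAdjunction g).left_adjoint_additive
  haveI : PreservesColimitsOfSize.{0, 0} (Scheme.Modules.pullback g) :=
    (pullbackPushforwardAdjunction g).leftAdjoint_preservesColimits
  haveI : PreservesColimitsOfSize.{u, u} (Scheme.Modules.pullback g) :=
    (pullbackPushforwardAdjunction g).leftAdjoint_preservesColimits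
  let S₀ := ShortComplex.mk (kernel.ι p) p (kernel.condition p)
  have hS₀ : S₀.ShortExact := { exact := ShortComplex.exact_of_f_is_kernel _ (kernelIsKernel p) }
  let S₁ := S₀.map (Scheme.Modules.pullback g)
  have hS₁ : S₁.ShortExact := ShortComplex.ShortExact.mk' (hS₀.exact.map_of_epi_of_preservesCokernel _ hp inferInstance)
    (ModLimH13.mono_pullback_map_of_flat g _) (inferInstanceAs (Epi ((Scheme.Modules.pullback g).map p)))
  have h1 := hvan (kernel p) (M1.isQCoh_kernel (M1.isQCoh_fr V α) hN p)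
  let O := Coh.structureModule V
  let P := (Scheme.Modules.pullback g).obj (∐ fun _ : α => O)
  let H : AddSubgroup Γ(P, g ⁻¹ᵁ ⊤) :=
    (AddMonoidHom.mk' (fun s : Γ(∐ fun _ : α => O, ⊤) => M2.pullSec g (∐ fun _ : α => O) s)
      (M2.pullSec_add g (∐ fun _ : α => O))).range
  -- sections of the free module
  have hfree : ∀ y : Γ(P, g ⁻¹ᵁ ⊤), y ∈ H := by
    intro y
    let e := PreservesCoproduct.iso (Scheme.Modules.pullback g) (fun _ : α => O) ≪≫
      Sigma.mapIso (fun _ => PicLoc.pullbackStructureIso g)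
    have hy : y = e.inv.app _ (e.hom.app _ y) :=
      (congrArg (fun φ : P ⟶ P => φ.app _ y) e.hom_inv_id).symm
    rw [hy]
    refine AddSubgroup.closure_induction (p := fun z _ => e.inv.app _ z ∈ H) ?_ ?_ ?_ ?_
      (CohFound.mem_closure_range_sigma (α := α) (Coh.structureModule Z) (U := g ⁻¹ᵁ ⊤) isCompact_univ
        isQuasiSeparated_univ (e.hom.app _ y))
    · rintro _ ⟨a, c, rfl⟩
      obtain ⟨r, hr⟩ := hg.2 c
      refine ⟨(Sigma.ι (fun _ : α => O) a).app ⊤ r, ?_⟩
      show M2.pullSec g _ ((Sigma.ι (fun _ : α => O) a).app ⊤ r) = _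
      rw [← VA11.map_pullSec g (Sigma.ι (fun _ : α => O) a) (V := ⊤) r]
      have he : (Scheme.Modules.pullback g).map (Sigma.ι (fun _ : α => O) a) ≫ e.hom =
          (PicLoc.pullbackStructureIso g).hom ≫ Sigma.ι (fun _ : α => Coh.structureModule Z) a := by
        have hι : (Scheme.Modules.pullback g).map (Sigma.ι (fun _ : α => O) a) ≫
            (PreservesCoproduct.iso (Scheme.Modules.pullback g) (fun _ : α => O)).hom =
              Sigma.ι (fun _ : α => (Scheme.Modules.pullback g).obj O) a := by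
          rw [← ι_comp_sigmaComparison, Category.assoc, ← PreservesCoproduct.inv_hom, Iso.inv_hom_id]
          exact Category.comp_id _
        simp only [e, Iso.trans_hom]
        rw [← Category.assoc, hι]
        simp
      have h2 := congrArg (fun φ => e.inv.app (g ⁻¹ᵁ ⊤) (φ.app (g ⁻¹ᵁ ⊤) (M2.pullSec g O r))) he
      refine ((congrArg (fun φ : P ⟶ P => φ.app (g ⁻¹ᵁ ⊤)
        (((Scheme.Modules.pullback g).map (Sigma.ι (fun _ : α => O) a)).app (g ⁻¹ᵁ ⊤) (M2.pullSec g O r)))
          e.hom_inv_id).symm.trans h2).trans ?_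
      show e.inv.app _ ((Sigma.ι (fun _ : α => Coh.structureModule Z) a).app _
        ((PicLoc.pullbackStructureIso g).hom.app (g ⁻¹ᵁ ⊤) (M2.pullSec g O r))) = _
      rw [VA11.pullbackStructureIso_pullSec g r]
      exact congrArg (fun z => e.inv.app _ ((Sigma.ι (fun _ : α => Coh.structureModule Z) a).app _ z)) hr
    · rw [map_zero]; exact zero_mem _
    · intro a b _ _ ha hb
      rw [map_add]; exact add_mem ha hb
    · intro a _ ha
      rw [map_neg]; exact neg_mem ha
  intro x
  obtain ⟨w, hw⟩ := surjective_g A (n := 0) hS₁ h1 ((CurveCoh17.hh0 _).symm x)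
  have hx := congrArg (CurveCoh17.hh0 _) hw
  rw [CurveCoh17.hh0_hmap, AddEquiv.apply_symm_apply] at hx
  obtain ⟨s, hs⟩ := hfree (CurveCoh17.hh0 _ w)
  refine ⟨Scheme.Modules.Hom.app (p : (∐ fun _ : α => O) ⟶ N) ⊤ s, ?_⟩
  exact (VA11.map_pullSec g (p : (∐ fun _ : α => O) ⟶ N) s).symm.trans
    ((congrArg (fun z => ((Scheme.Modules.pullback g).map (p : (∐ fun _ : α => O) ⟶ N)).app (g ⁻¹ᵁ ⊤) z) hs).trans hx)

end Groth.Agent.RegRes18
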