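import Groth.Agent.Lib.RegRes18.Step
import Groth.Agent.Lib.BoxRes9.Resol
import Groth.Agent.Lib.CMReg18.PushKvb

/-!
# The resolution of a regular quasi-coherent module on projective space
-/

set_option autoImplicit false
set_option linter.style.haveILetI false
set_option backward.isDefEq.respectTransparency false
set_option maxHeartbeats 1600000

universe u

open CategoryTheory CategoryTheory.Limits AlgebraicGeometry TopologicalSpace Opposite Scheme.Modules

namespace Groth.Agent.RegRes18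

open Groth.Agent Groth.Agent.CMReg18

variable {n : ℕ} {Y : Scheme.{u}}

/-- The regular modules of the resolution. -/
noncomputable def G (F : (KRR.PY n Y).Modules) : ℕ → (KRR.PY n Y).Modules
  | 0 => F
  | m + 1 => KRR.twF n Y 1 (Ker (G F m))

variable {F : (KRR.PY n Y).Modules}

theorem props_G (hF : Coh.IsQCoh F) (hr : KRR.IsRegSheaf n Y F) : ∀ m : ℕ,
    Coh.IsQCoh (G F m) ∧ KRR.IsRegSheaf n Y (G F m) ∧
      ∀ k i : ℕ, 1 ≤ k → k ≤ m → k ≤ n + 1 → Van (G F m) (-(k : ℤ)) i
  | 0 => ⟨hF, hr, fun _ _ h1 h2 => absurd h2 (by omega)⟩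
  | m + 1 => by
    obtain ⟨hq, hg, hl⟩ := props_G hF hr m
    exact ⟨isQCoh_twF (qcoh_Ker hq) 1, reg_next hq hg, fun k i h1 h2 h3 =>
      van_twF (by ring) (van_Ker hq hg hl k i h1 h2 h3)⟩

theorem isZero_G (hF : Coh.IsQCoh F) (hr : KRR.IsRegSheaf n Y F) : ∀ m : ℕ, n < m → IsZero (G F m) := by
  intro m hm
  induction m with
  | zero => omega
  | succ m ih =>
    have hz : IsZero (Ker (G F m)) := by
      rcases Nat.lt_or_ge n m with hm' | hm'
      · have hG := ih hm'
        haveI : (Scheme.Modules.pullback (KRR.pr n Y)).Additive :=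
          (pullbackPushforwardAdjunction (KRR.pr n Y)).left_adjoint_additive
        haveI : (Scheme.Modules.pushforward (KRR.pr n Y)).Additive :=
          (pullbackPushforwardAdjunction (KRR.pr n Y)).right_adjoint_additive
        exact IsZero.of_mono (kernel.ι (eps (G F m)))
          ((Scheme.Modules.pullback (KRR.pr n Y)).map_isZero ((Scheme.Modules.pushforward (KRR.pr n Y)).map_isZero hG))
      · obtain rfl : m = n := by omega
        obtain ⟨hq, hg, hl⟩ := props_G hF hr m
        exact isZero_Ker hq hg hl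
    exact ((M2.tensorR (Twist.twistOver n Y 1)).map_isZero hz).of_iso
      (M2.tensorComm (Twist.twistOver n Y 1) (Ker (G F m)))

/-- The terms of the resolution. -/
noncomputable def term (F : (KRR.PY n Y).Modules) (m : ℕ) : (KRR.PY n Y).Modules :=
  (overData n Y).tw ((Scheme.Modules.pullback (KRR.pr n Y)).obj
    ((Scheme.Modules.pushforward (KRR.pr n Y)).obj (G F m))) (-(m : ℤ))

/-- The syzygy iso. -/
noncomputable def shiftIso (F : (KRR.PY n Y).Modules) (m : ℕ) :
    (overData n Y).tw (G F (m + 1)) (-((m + 1 : ℕ) : ℤ)) ≅ (overData n Y).tw (Ker (G F m)) (-(m : ℤ)) :=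
  M2.tensorIso (M2.tensorComm (Twist.twistOver n Y 1) (Ker (G F m))) (Iso.refl _) ≪≫
    (overData n Y).twTwist (Ker (G F m)) 1 (-((m + 1 : ℕ) : ℤ)) ≪≫ (overData n Y).twIso _ (by push_cast; ring)

/-- The spliced short exact sequences. -/
noncomputable def chain (hF : Coh.IsQCoh F) (hr : KRR.IsRegSheaf n Y F) :
    BoxRes9.Chain (fun _ : (KRR.PY n Y).Modules => True) ((overData n Y).tw F (-((0 : ℕ) : ℤ))) where
  Z m := (overData n Y).tw (G F m) (-(m : ℤ))
  B := term F
  ι m := (shiftIso F m).hom ≫ (M2.tensorR ((overData n Y).O (-(m : ℤ)))).map (kernel.ι (eps (G F m)))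
  π m := (M2.tensorR ((overData n Y).O (-(m : ℤ)))).map (eps (G F m))
  w m := by
    rw [Category.assoc, ← Functor.map_comp, kernel.condition, Functor.map_zero, comp_zero]
  se m := by
    obtain ⟨hq, hg, -⟩ := props_G hF hr m
    refine ShortComplex.shortExact_of_iso ?_ ((overData n Y).shortExact_tw (ses_eps hq hg) (-(m : ℤ)))
    exact ShortComplex.isoMk (shiftIso F m).symm (Iso.refl _) (Iso.refl _)
      (by exact (Iso.inv_hom_id_assoc (shiftIso F m) _).trans (Category.comp_id _).symm)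
      (by exact (Category.id_comp _).trans (Category.comp_id _).symm)
  hB _ := trivial
  Z0 := rfl

/-- The spliced complex of a chain resolves its zeroth object. -/
theorem exists_quasiIso {A : Type*} [Category A] [Abelian A] {P : A → Prop} {M : A} (c : BoxRes9.Chain P M) :
    ∃ π : ChainComplex.of c.B c.d c.d_d ⟶ (ChainComplex.single₀ A).obj (c.Z 0), QuasiIso π := by
  let C := ChainComplex.of c.B c.d c.d_d
  have hC : ∀ m : ℕ, C.d (m + 1) m = c.d m := fun m => ChainComplex.of_d c.B c.d m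
  have hC0 : C.d 1 0 = c.d 0 := hC 0
  have hd : C.d 1 0 ≫ c.π 0 = 0 := by
    rw [hC0, BoxRes9.Chain.d, Category.assoc, c.w, comp_zero]
  refine ⟨(ChainComplex.toSingle₀Equiv _ _).symm ⟨c.π 0, hd⟩, ⟨fun n => ?_⟩⟩
  cases n with
  | zero =>
    haveI := (c.se 0).epi_g
    rw [ChainComplex.quasiIsoAt₀_iff, ShortComplex.quasiIso_iff_of_zeros']
    · dsimp
      refine (ShortComplex.exact_and_epi_g_iff_of_iso ?_).2 ⟨c.exact_d_π 0, inferInstanceAs (Epi (c.π 0))⟩
      refine ShortComplex.isoMk (Iso.refl _) (Iso.refl _) (Iso.refl _) ?_ ?_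
      · show 𝟙 (c.B 1) ≫ c.d 0 = C.d 1 0 ≫ 𝟙 (c.B 0)
        rw [hC0, Category.id_comp, Category.comp_id]
      · show 𝟙 (c.B 0) ≫ c.π 0 = ((ChainComplex.toSingle₀Equiv C (c.Z 0)).symm ⟨c.π 0, hd⟩).f 0 ≫ 𝟙 (c.Z 0)
        rw [ChainComplex.toSingle₀Equiv_symm_apply_f_zero, Category.id_comp]
        exact (Category.comp_id _).symm
    all_goals rfl
  | succ n =>
    rw [quasiIsoAt_iff_exactAt']
    · rw [HomologicalComplex.exactAt_iff' _ (n + 1 + 1) (n + 1) n (by simp) (by simp)]
      refine ShortComplex.exact_of_iso ?_ (c.exact_d_d n)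
      refine ShortComplex.isoMk (Iso.refl _) (Iso.refl _) (Iso.refl _) ?_ ?_
      · show 𝟙 (c.B (n + 1 + 1)) ≫ C.d (n + 1 + 1) (n + 1) = c.d (n + 1) ≫ 𝟙 (c.B (n + 1))
        rw [hC, Category.id_comp, Category.comp_id]
      · show 𝟙 (c.B (n + 1)) ≫ C.d (n + 1) n = c.d n ≫ 𝟙 (c.B n)
        rw [hC, Category.id_comp, Category.comp_id]
    · apply ChainComplex.exactAt_succ_single_obj

theorem exists_resolution (hF : Coh.IsQCoh F) (hr : KRR.IsRegSheaf n Y F) :
    ∃ (Tm : ℕ → Y.Modules) (L : ChainComplex (KRR.PY n Y).Modules ℕ)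
      (π : L ⟶ (ChainComplex.single₀ (KRR.PY n Y).Modules).obj F),
      (∀ i, Coh.IsQCoh (Tm i)) ∧
      (∀ i, i ≤ n → Nonempty (L.X i ≅
        KRR.twF n Y (-(i : ℤ)) ((Scheme.Modules.pullback (KRR.pr n Y)).obj (Tm i)))) ∧
      (∀ i, n < i → IsZero (L.X i)) ∧ QuasiIso π := by
  let c := chain hF hr
  obtain ⟨π, hπ⟩ := exists_quasiIso c
  let e : c.Z 0 ≅ F := (overData n Y).twIso F (by simp) ≪≫ (overData n Y).twZero F
  refine ⟨fun m => (Scheme.Modules.pushforward (KRR.pr n Y)).obj (G F m), ChainComplex.of c.B c.d c.d_d,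
    π ≫ ((ChainComplex.single₀ (KRR.PY n Y).Modules).mapIso e).hom,
    fun m => M1.isQCoh_push _ (props_G hF hr m).1,
    fun m _ => ⟨M2.tensorComm _ _⟩, fun m hm => ?_, inferInstance⟩
  haveI : (Scheme.Modules.pullback (KRR.pr n Y)).Additive :=
    (pullbackPushforwardAdjunction (KRR.pr n Y)).left_adjoint_additive
  haveI : (Scheme.Modules.pushforward (KRR.pr n Y)).Additive :=
    (pullbackPushforwardAdjunction (KRR.pr n Y)).right_adjoint_additive
  exact (M2.tensorR ((overData n Y).O (-(m : ℤ)))).map_isZero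
    ((Scheme.Modules.pullback (KRR.pr n Y)).map_isZero
      ((Scheme.Modules.pushforward (KRR.pr n Y)).map_isZero (isZero_G hF hr m hm)))

end Groth.Agent.RegRes18
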