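import Groth.Agent.Lib.RegRes18.Affine
import Groth.Agent.Lib.RegSeq23.Basic
import Groth.Agent.Lib.StQC14.FinPushGen
import Groth.Agent.Lib.ProjSpace.Basic

/-!
# One step of the canonical resolution of a regular quasi-coherent module on projective space
-/

set_option autoImplicit false
set_option linter.style.haveILetI false
set_option backward.isDefEq.respectTransparency false
set_option maxHeartbeats 1600000

universe u

open CategoryTheory CategoryTheory.Limits AlgebraicGeometry TopologicalSpace Opposite Scheme.Modules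

namespace Groth.Agent.RegRes18

open Groth.Agent Groth.Agent.CMReg18

variable {n : ℕ} {Y : Scheme.{u}}

local notation "π" => CohB1.ProjSpaceOver.toBase n Y

theorem injective_app_of_mono {X : Scheme.{u}} {M N : X.Modules} (φ : M ⟶ N) [Mono φ] (U : X.Opens) :
    Function.Injective (φ.app U) := by
  let ev := SheafOfModules.evaluation X.ringCatSheaf (op U)
  haveI : PreservesFiniteLimits ev :=
    inferInstanceAs (PreservesFiniteLimits (SheafOfModules.forget _ ⋙ PresheafOfModules.evaluation _ (op U)))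
  exact (ModuleCat.mono_iff_injective _).1 (inferInstanceAs (Mono (ev.map φ)))

/-- The counit. -/
noncomputable abbrev eps (G : (KRR.PY n Y).Modules) :
    (Scheme.Modules.pullback (KRR.pr n Y)).obj ((Scheme.Modules.pushforward (KRR.pr n Y)).obj G) ⟶ G :=
  (Scheme.Modules.pullbackPushforwardAdjunction (KRR.pr n Y)).counit.app G

/-- The kernel of the counit. -/
noncomputable abbrev Ker (G : (KRR.PY n Y).Modules) : (KRR.PY n Y).Modules := kernel (eps G)

/-- Vanishing of cohomology of twists over affine opens of the base. -/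
def Van (G : (KRR.PY n Y).Modules) (d : ℤ) (i : ℕ) : Prop :=
  ∀ W : Y.Opens, IsAffineOpen W →
    Subsingleton (Coh.HH (π ⁻¹ᵁ W : (CohB1.ProjSpaceOver n Y).Opens).toScheme
      ((wdata n W).tw (G.restrict (π ⁻¹ᵁ W).ι) d) i)

theorem qcoh_P {G : (KRR.PY n Y).Modules} (hG : Coh.IsQCoh G) :
    Coh.IsQCoh ((Scheme.Modules.pullback (KRR.pr n Y)).obj ((Scheme.Modules.pushforward (KRR.pr n Y)).obj G)) :=
  M1.isQCoh_pullback (KRR.pr n Y) (M1.isQCoh_push π hG)

theorem qcoh_Ker {G : (KRR.PY n Y).Modules} (hG : Coh.IsQCoh G) : Coh.IsQCoh (Ker G) :=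
  M1.isQCoh_kernel (qcoh_P hG) hG _

theorem subsingleton_HH_O {W : Y.Opens} (hW : IsAffineOpen W) (d : ℤ) (j : ℕ)
    (hj : ¬ ((j = 0 ∧ 0 ≤ d) ∨ (j = n ∧ d ≤ -((n : ℤ) + 1)))) :
    Subsingleton (Coh.HH (π ⁻¹ᵁ W : (CohB1.ProjSpaceOver n Y).Opens).toScheme ((wdata n W).O d) j) := by
  letI := CBC10.overU π hW
  refine van_iso Γ(Y, W)
    ((Scheme.Modules.restrictFunctorIsoPullback (π ⁻¹ᵁ W).ι).app (_root_.Twist.twistOver n Y d)) ?_
  refine (CohFound.subsingleton_HH_iff _ _).2 ?_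
  obtain ⟨e⟩ := CohFound.nonempty_hc_abF_restrict (π ⁻¹ᵁ W).ι (_root_.Twist.twistOver n Y d) j ⊤
  rw [Scheme.Hom.image_top_eq_opensRange, Scheme.Opens.opensRange_ι] at e
  exact @Equiv.subsingleton _ _ e.toEquiv (CohFound.subsingleton_hc_twistOver Y n j d hj hW)

/-- Twists of pulled back modules. -/
theorem van_pullback {N : Y.Modules} (hN : Coh.IsQCoh N) {d : ℤ} {i : ℕ} (hd : -(n : ℤ) ≤ d ∨ n < i)
    (hi : 1 ≤ i ∨ d < 0) : Van ((Scheme.Modules.pullback (KRR.pr n Y)).obj N) d i := fun W hW => by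
  letI := CBC10.overU π hW
  haveI : IsAffine (W : Scheme.{u}) := hW
  haveI : Flat (π ∣_ W) := inferInstance
  haveI : CompactSpace (π ⁻¹ᵁ W : (CohB1.ProjSpaceOver n Y).Opens).toScheme :=
    isCompact_iff_compactSpace.1 (RA.isCompact_preimage π hW)
  refine van_iso Γ(Y, W) (M2.tensorIso ?_ (Iso.refl _))
    (subsingleton_HH_pullback_tw (π ∣_ W) (wdata n W) Γ(Y, W) (d := d) (i := i)
      (fun j' hj' => subsingleton_HH_O hW d j' (by omega))
      (M1.isQCoh_pullback W.ι hN) i le_rfl)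
  exact (Scheme.Modules.pullbackComp (π ∣_ W) W.ι).app N ≪≫
    (Scheme.Modules.pullbackCongr (morphismRestrict_ι π W)).app N ≪≫
    ((Scheme.Modules.pullbackComp (π ⁻¹ᵁ W).ι π).app N).symm ≪≫
    ((Scheme.Modules.restrictFunctorIsoPullback (π ⁻¹ᵁ W).ι).app _).symm

theorem van_twF {G : (KRR.PY n Y).Modules} {d e c : ℤ} {i : ℕ} (h : d + e = c) (hv : Van G c i) :
    Van (KRR.twF n Y d G) e i := fun W hW => by
  letI := CBC10.overU π hW
  exact van_iso Γ(Y, W) (M2.tensorIso (wTwIso G d W) (Iso.refl _) ≪≫ (wdata n W).twTwist _ _ _ ≪≫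
    (wdata n W).twIso _ h).symm (hv W hW)

theorem van_of_twF {G : (KRR.PY n Y).Modules} {d e c : ℤ} {i : ℕ} (h : d + e = c)
    (hv : Van (KRR.twF n Y d G) e i) : Van G c i := fun W hW => by
  letI := CBC10.overU π hW
  exact van_iso Γ(Y, W) (M2.tensorIso (wTwIso G d W) (Iso.refl _) ≪≫ (wdata n W).twTwist _ _ _ ≪≫
    (wdata n W).twIso _ h) (hv W hW)

theorem isRegSheaf_iff_van {G : (KRR.PY n Y).Modules} (hG : Coh.IsQCoh G) :
    KRR.IsRegSheaf n Y G ↔ ∀ i : ℕ, 1 ≤ i → Van G (-(i : ℤ)) i :=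
  (isRegSheaf_iff hG).trans ⟨fun h i hi W hW => by
      letI := CBC10.overU π hW
      exact van_iso Γ(Y, W) ((wdata n W).twIso _ (by omega)) (h W hW i hi),
    fun h W hW i hi => by
      letI := CBC10.overU π hW
      exact van_iso Γ(Y, W) ((wdata n W).twIso _ (by omega)) (h i hi W hW)⟩

theorem van_zero_of_reg {G : (KRR.PY n Y).Modules} (hG : Coh.IsQCoh G) (h : KRR.IsRegSheaf n Y G) {i : ℕ}
    (hi : 1 ≤ i) : Van G 0 i := fun W hW => by
  letI := CBC10.overU π hW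
  exact ((isRegSheaf_iff hG).1 h W hW).van Γ(Y, W) hi (r := 0) (by omega)

/-- Sections of a pullback over an affine open of the base come from the base. -/
theorem surjective_pullSec_base {N : Y.Modules} (hN : Coh.IsQCoh N) {W : Y.Opens} (hW : IsAffineOpen W) :
    Function.Surjective (M2.pullSec π N : Γ(N, W) → _) := by
  letI := CBC10.overU π hW
  haveI : IsAffine (W : Scheme.{u}) := hW
  haveI : Flat (π ∣_ W) := inferInstance
  haveI : CompactSpace (π ⁻¹ᵁ W : (CohB1.ProjSpaceOver n Y).Opens).toScheme :=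
    isCompact_iff_compactSpace.1 (RA.isCompact_preimage π hW)
  let jZ := (π ⁻¹ᵁ W).ι
  let g := π ∣_ W
  have hg : Function.Bijective (g.app ⊤) := by
    rw [morphismRestrict_app]
    exact ((ConcreteCategory.isIso_iff_bijective
      ((CohB1.ProjSpaceOver n Y).presheaf.map (eqToHom (image_morphismRestrict_preimage π W ⊤)).op)).1
        inferInstance).comp (PicPn.bijective_toBase_app n _)
  have hsurj : ∀ V : (W : Scheme.{u}).Opens, V = ⊤ →
      Function.Surjective (M2.pullSec g ((Scheme.Modules.pullback W.ι).obj N) : Γ((Scheme.Modules.pullback W.ι).obj N, V) → _) := by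
    rintro V rfl
    refine surjective_pullSec g hg Γ(Y, W) (fun M hM => ?_) (M1.isQCoh_pullback W.ι hN)
    exact van_iso Γ(Y, W) ((wdata n W).twZero _)
      (subsingleton_HH_pullback_tw g (wdata n W) Γ(Y, W) (d := 0) (i := 1)
        (fun j' hj' => subsingleton_HH_O hW 0 j' (by omega)) hM 1 le_rfl)
  let e := (Scheme.Modules.pullbackComp g W.ι).app N ≪≫
    (Scheme.Modules.pullbackCongr (morphismRestrict_ι π W)).app N
  let c := ((Scheme.Modules.pullbackComp jZ π).app N)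
  have hV : W.ι ⁻¹ᵁ W = ⊤ := Scheme.Opens.ι_preimage_self W
  intro x
  let x' := M2.pullSec jZ ((Scheme.Modules.pullback π).obj N) x
  have hle : g ⁻¹ᵁ (W.ι ⁻¹ᵁ W) = jZ ⁻¹ᵁ (π ⁻¹ᵁ W) := by
    show (g ≫ W.ι) ⁻¹ᵁ W = (jZ ≫ π) ⁻¹ᵁ W
    rw [morphismRestrict_ι]
  obtain ⟨m, hm⟩ := hsurj _ hV (e.inv.app _ (M1.mres _ hle.le (c.hom.app _ x')))
  obtain ⟨t, ht⟩ := (Grass18.bijective_pullSec_open W.ι N (V := W) (by rw [Scheme.Opens.opensRange_ι])).2 m
  refine ⟨t, (Grass18.bijective_pullSec_open jZ ((Scheme.Modules.pullback π).obj N) (V := π ⁻¹ᵁ W)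
    (by rw [Scheme.Opens.opensRange_ι])).1 ?_⟩
  have h1 := congrArg (fun z => e.hom.app (g ⁻¹ᵁ (W.ι ⁻¹ᵁ W)) z) hm
  simp only at h1
  have h2 : ∀ z, e.hom.app (g ⁻¹ᵁ (W.ι ⁻¹ᵁ W)) (e.inv.app _ z) = z := fun z =>
    congrArg (fun φ => Scheme.Modules.Hom.app φ (g ⁻¹ᵁ (W.ι ⁻¹ᵁ W)) z) e.inv_hom_id
  rw [h2, ← ht] at h1
  have h3 : M1.mres _ hle.le (c.hom.app (jZ ⁻¹ᵁ (π ⁻¹ᵁ W)) x') = M1.mres _ hle.le (M2.pullSec (jZ ≫ π) N t) :=
    h1.symm.trans (VA11.comp_congr_pullSec g W.ι (morphismRestrict_ι π W) N t)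
  have h4 : c.hom.app (jZ ⁻¹ᵁ (π ⁻¹ᵁ W)) x' = M2.pullSec (jZ ≫ π) N t :=
    (Grass18.bijective_mres_of_eq _ hle).1 h3
  have h5 : x' = c.inv.app (jZ ⁻¹ᵁ (π ⁻¹ᵁ W)) (M2.pullSec (jZ ≫ π) N t) :=
    ((congrArg (fun φ => Scheme.Modules.Hom.app φ (jZ ⁻¹ᵁ (π ⁻¹ᵁ W)) x') c.hom_inv_id).symm).trans (congrArg (fun z => Scheme.Modules.Hom.app c.inv (jZ ⁻¹ᵁ (π ⁻¹ᵁ W)) z) h4)
  exact ((VA11.pullbackComp_inv_pullSec jZ π N t).symm.trans h5.symm)

/-- The kernel of the counit has no sections over affine opens of the base. -/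
theorem sec_Ker_eq_zero {G : (KRR.PY n Y).Modules} (hG : Coh.IsQCoh G) {W : Y.Opens} (hW : IsAffineOpen W)
    (x : Γ(Ker G, π ⁻¹ᵁ W)) : x = 0 := by
  obtain ⟨t, ht⟩ := surjective_pullSec_base (M1.isQCoh_push π hG) hW ((kernel.ι (eps G)).app (π ⁻¹ᵁ W) x)
  have h0 : (eps G).app (π ⁻¹ᵁ W) ((kernel.ι (eps G)).app (π ⁻¹ᵁ W) x) = 0 :=
    congrArg (fun φ : Ker G ⟶ G => φ.app (π ⁻¹ᵁ W) x) (kernel.condition (eps G))
  have h1 : (eps G).app (π ⁻¹ᵁ W) (M2.pullSec π ((Scheme.Modules.pushforward π).obj G) t) = t :=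
    congrArg (fun φ : (Scheme.Modules.pushforward π).obj G ⟶ _ => φ.app W t)
      ((Scheme.Modules.pullbackPushforwardAdjunction π).right_triangle_components G)
  have ht0 : t = 0 := h1.symm.trans ((congrArg ((eps G).app (π ⁻¹ᵁ W)) ht).trans h0)
  apply injective_app_of_mono (kernel.ι (eps G)) (π ⁻¹ᵁ W)
  rw [map_zero, ← ht, ht0]
  exact map_zero (AddMonoidHom.mk' _ (M2.pullSec_add π _))

theorem ses_eps {G : (KRR.PY n Y).Modules} (hG : Coh.IsQCoh G) (h : KRR.IsRegSheaf n Y G) :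
    (ShortComplex.mk (kernel.ι (eps G)) (eps G) (kernel.condition _)).ShortExact :=
  haveI := epi_counit_of_reg_qcoh n hG h
  { exact := ShortComplex.exact_of_f_is_kernel _ (kernelIsKernel _) }

theorem epi_push_eps (G : (KRR.PY n Y).Modules) :
    Epi ((Scheme.Modules.pushforward (KRR.pr n Y)).map (eps G)) := by
  have h := (Scheme.Modules.pullbackPushforwardAdjunction (KRR.pr n Y)).right_triangle_components G
  exact epi_of_epi_fac h

theorem reg_P {N : Y.Modules} (hN : Coh.IsQCoh N) :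
    KRR.IsRegSheaf n Y ((Scheme.Modules.pullback (KRR.pr n Y)).obj N) := by
  refine (isRegSheaf_iff_van (M1.isQCoh_pullback (KRR.pr n Y) hN)).2 fun i hi => ?_
  exact van_pullback hN (by omega) (Or.inl hi)

theorem reg_twist_one {M : (KRR.PY n Y).Modules} (hM : Coh.IsQCoh M) (h : KRR.IsRegSheaf n Y M) :
    KRR.IsRegSheaf n Y (KRR.twF n Y 1 M) :=
  (regSheaf_twist hM h).1 1

theorem reg_P_one {G : (KRR.PY n Y).Modules} (hG : Coh.IsQCoh G) :
    KRR.IsRegSheaf n Y (KRR.twF n Y 1 ((Scheme.Modules.pullback (KRR.pr n Y)).obj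
      ((Scheme.Modules.pushforward (KRR.pr n Y)).obj G))) :=
  reg_twist_one (qcoh_P hG) (reg_P (M1.isQCoh_push π hG))

theorem reg_left_of {S : ShortComplex (KRR.PY n Y).Modules} {A B C : (KRR.PY n Y).Modules}
    (hA : S.X₁ = A) (hB : S.X₂ = B) (hC : S.X₃ = C) (hS : S.ShortExact)
    (h₂ : KRR.IsRegSheaf n Y (KRR.twF n Y 1 B)) (h₃ : KRR.IsRegSheaf n Y C)
    (hepi : Epi ((Scheme.Modules.pushforward (KRR.pr n Y)).map S.g)) :
    KRR.IsRegSheaf n Y (KRR.twF n Y 1 A) := by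
  subst hA hB hC
  exact RegSeq23.isRegSheaf_left n hS h₂ h₃ hepi

/-- The first twist of the kernel is regular. -/
theorem reg_next {G : (KRR.PY n Y).Modules} (hG : Coh.IsQCoh G) (h : KRR.IsRegSheaf n Y G) :
    KRR.IsRegSheaf n Y (KRR.twF n Y 1 (Ker G)) :=
  reg_left_of (S := ShortComplex.mk (kernel.ι (eps G)) (eps G) (kernel.condition _)) rfl rfl rfl
    (ses_eps hG h) (reg_P_one hG) h (epi_push_eps G)

/-- Vanishing for the twists down of the kernel. -/
theorem van_Ker {G : (KRR.PY n Y).Modules} (hG : Coh.IsQCoh G) (h : KRR.IsRegSheaf n Y G) {j : ℕ}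
    (hlow : ∀ k i : ℕ, 1 ≤ k → k ≤ j → k ≤ n + 1 → Van G (-(k : ℤ)) i) :
    ∀ k i : ℕ, 1 ≤ k → k ≤ j + 1 → k ≤ n + 1 → Van (Ker G) (1 - (k : ℤ)) i := by
  intro k i hk hkj hkn W hW
  letI := CBC10.overU π hW
  have hN := M1.isQCoh_push π hG
  have hS := (wdata n W).shortExact_tw ((ses_eps hG h).map_of_exact
    (Scheme.Modules.restrictFunctor (π ⁻¹ᵁ W).ι)) (1 - (k : ℤ))
  rcases Nat.eq_zero_or_pos i with rfl | hi
  · rcases Nat.lt_or_ge k 2 with hk1 | hk2
    · obtain rfl : k = 1 := by omega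
      refine van_iso Γ(Y, W) ((wdata n W).twIso _ (by norm_num) ≪≫ (wdata n W).twZero _).symm ?_
      have hz : ∀ V : (KRR.PY n Y).Opens, π ⁻¹ᵁ W = V → ∀ z : Γ(Ker G, V), z = 0 := by
        rintro V rfl z
        exact sec_Ker_eq_zero hG hW z
      refine subsingleton_of_forall_eq 0 fun w => (CurveCoh17.hh0 _).injective ?_
      rw [map_zero]
      exact hz _ (Scheme.Opens.ι_image_top _).symm _
    · refine subsingleton_of_forall_eq 0 fun w => CurveCoh17.hmap_f_injective Γ(Y, W) hS ?_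
      exact @Subsingleton.elim _ (van_pullback hN (Or.inl (by omega)) (Or.inr (by omega)) W hW) _ _
  · obtain ⟨p, rfl⟩ : ∃ p, i = p + 1 := ⟨i - 1, by omega⟩
    have h2 := van_pullback (n := n) hN (d := 1 - (k : ℤ)) (i := p + 1) (Or.inl (by omega)) (Or.inl (by omega)) W hW
    rcases Nat.lt_or_ge k 2 with hk1 | hk2
    · obtain rfl : k = 1 := by omega
      rcases Nat.eq_zero_or_pos p with rfl | hp
      · exact van_of_twF (by norm_num) ((isRegSheaf_iff_van (isQCoh_twF (qcoh_Ker hG) 1)).1 (reg_next hG h) 1 le_rfl) W hW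
      · exact van₁ Γ(Y, W) hS (van_iso Γ(Y, W) ((wdata n W).twIso _ (by norm_num))
          (van_zero_of_reg hG h hp W hW)) h2
    · exact van₁ Γ(Y, W) hS (van_iso Γ(Y, W) ((wdata n W).twIso _ (by omega))
        (hlow (k - 1) p (by omega) (by omega) (by omega) W hW)) h2

/-- Cohomology of quasi-coherent modules vanishes above the relative dimension. -/
theorem van_above {G : (KRR.PY n Y).Modules} (hG : Coh.IsQCoh G) (d : ℤ) {i : ℕ} (hi : n < i) :
    Van G d i := fun W hW => by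
  haveI : IsAffine (W : Scheme.{u}) := hW
  let a := pullback.fst (CohB1.ProjSpace.toSpec n (ULift.{u} ℤ)) (specULiftZIsTerminal.from Y)
  have H : IsPullback ((π ⁻¹ᵁ W).ι ≫ a) (π ∣_ W) (CohB1.ProjSpace.toSpec n (ULift.{u} ℤ))
      (W.ι ≫ specULiftZIsTerminal.from Y) :=
    (isPullback_morphismRestrict π W).flip.paste_horiz
      (IsPullback.of_hasPullback (CohB1.ProjSpace.toSpec n (ULift.{u} ℤ)) (specULiftZIsTerminal.from Y))
  haveI : IsAffineHom (W.ι ≫ specULiftZIsTerminal.from Y) := isAffineHom_of_isAffine _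
  haveI : IsAffineHom ((π ⁻¹ᵁ W).ι ≫ a) :=
    MorphismProperty.of_isPullback (P := @IsAffineHom) H.flip inferInstance
  haveI : IsSeparated (π ∣_ W) := inferInstance
  haveI : (π ⁻¹ᵁ W : (CohB1.ProjSpaceOver n Y).Opens).toScheme.IsSeparated :=
    ⟨by rw [← terminal.comp_from (π ∣_ W)]; infer_instance⟩
  haveI : Coh.IsQCoh ((wdata n W).tw (G.restrict (π ⁻¹ᵁ W).ι) d) :=
    M2.isQCoh_tensor (M1.isQCoh_restrict hG _) (Twist.isQCoh_of_isInvertible ((wdata n W).inv d))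
  refine S0010.result _ (n + 1) (fun l => ((π ⁻¹ᵁ W).ι ≫ a) ⁻¹ᵁ
    Proj.basicOpen (CohB1.polyGrading n (ULift.{u} ℤ)) (MvPolynomial.X l)) (fun l => ?_) ?_
    (fun _ _ h1 h2 => h1.inf h2) _ i (by omega)
  · exact (Proj.isAffineOpen_basicOpen _ (MvPolynomial.X l) (m := 1)
      (MvPolynomial.isHomogeneous_X _ l) one_pos).preimage _
  · rw [← Scheme.Hom.preimage_iSup, ProjSpace.iSup_basicOpen]; rfl

/-- Regular modules with no cohomology in all low twists vanish at the last step. -/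
theorem isZero_Ker {G : (KRR.PY n Y).Modules} (hG : Coh.IsQCoh G) (h : KRR.IsRegSheaf n Y G)
    (hlow : ∀ k i : ℕ, 1 ≤ k → k ≤ n → k ≤ n + 1 → Van G (-(k : ℤ)) i) : IsZero (Ker G) := by
  have hK := qcoh_Ker hG
  have hreg : KRR.IsRegSheaf n Y (Ker G) := (isRegSheaf_iff_van hK).2 fun i hi => by
    rcases Nat.lt_or_ge n i with hn | hn
    · exact van_above hK _ hn
    · have := van_Ker hG h hlow (i + 1) i (by omega) (by omega) (by omega)
      rwa [show 1 - (((i + 1 : ℕ) : ℤ)) = -(i : ℤ) by push_cast; ring] at this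
  have hz : IsZero ((Scheme.Modules.pushforward (KRR.pr n Y)).obj (Ker G)) := by
    rw [IsZero.iff_id_eq_zero]
    exact StQC14.hom_eq_zero_of_affine _ fun W hW m => sec_Ker_eq_zero hG hW m
  haveI := epi_counit_of_reg_qcoh n hK hreg
  haveI : (Scheme.Modules.pullback (KRR.pr n Y)).Additive :=
    (pullbackPushforwardAdjunction (KRR.pr n Y)).left_adjoint_additive
  exact IsZero.of_epi (eps (Ker G)) ((Scheme.Modules.pullback (KRR.pr n Y)).map_isZero hz)

end Groth.Agent.RegRes18
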